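import Cfsg.Agent.Lib.BrauerSuzuki.ZStar
import Cfsg.Agent.Lib.Transfer.Basic
import Mathlib.GroupTheory.Transfer
import Mathlib.GroupTheory.SemidirectProduct

/-!
Glauberman: in a group with trivial odd core, an element of an abelian Sylow 2-subgroup `T` fixed
by the normaliser of `T` is central.
-/

set_option autoImplicit false
set_option linter.style.haveILetI false

namespace Cfsg.Agent.AbelianSylowAut

universe u

/-- An involution of an abelian Sylow 2-subgroup fixed by its normaliser is isolated. -/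
theorem isolated_of_fixed {X : Type u} [Group X] [Finite X] [Fact (Nat.Prime 2)] (T : Sylow 2 X)
    [IsMulCommutative (T : Subgroup X)] {c : X} (hc : orderOf c = 2) (hcT : c ∈ (T : Subgroup X))
    (hfix : ∀ n ∈ Subgroup.normalizer ((T : Subgroup X) : Set X), n * c * n⁻¹ = c) :
    Cfsg.IsIsolated c := by
  intro g hg
  set d := g * c * g⁻¹ with hd
  have hd2 : d ^ 2 = 1 := by
    rw [hd, conj_pow, ← hc, pow_orderOf_eq_one, mul_one, mul_inv_cancel]
  set C : Subgroup X := Subgroup.centralizer ({c} : Set X) with hC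
  have hTC : (T : Subgroup X) ≤ C := fun t ht => Subgroup.mem_centralizer_singleton_iff.2
    (congrArg Subtype.val (mul_comm' (⟨t, ht⟩ : (T : Subgroup X)) ⟨c, hcT⟩))
  have hdC : d ∈ C := Subgroup.mem_centralizer_singleton_iff.2 hg.symm.eq
  have hpd : IsPGroup 2 (Subgroup.zpowers (⟨d, hdC⟩ : C)) := by
    have h2 : orderOf (⟨d, hdC⟩ : C) ∣ 2 ^ 1 := orderOf_dvd_of_pow_eq_one (Subtype.ext hd2)
    obtain ⟨e, -, he⟩ := (Nat.dvd_prime_pow Nat.prime_two).1 h2
    exact IsPGroup.of_card (n := e) (by rw [Nat.card_zpowers, he])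
  obtain ⟨Q, hQ⟩ := hpd.exists_le_sylow
  obtain ⟨k, hk⟩ := MulAction.exists_smul_eq C Q (T.subtype hTC)
  have hmem : (k : X) * d * (k : X)⁻¹ ∈ (T : Subgroup X) := by
    have h1 : k * ⟨d, hdC⟩ * k⁻¹ ∈ (T.subtype hTC : Subgroup C) := by
      rw [← hk, Sylow.coe_subgroup_smul]
      exact ⟨⟨d, hdC⟩, hQ (Subgroup.mem_zpowers _), rfl⟩
    exact Subgroup.mem_subgroupOf.1 h1
  have e : (g⁻¹ * (k : X)⁻¹)⁻¹ * c * (g⁻¹ * (k : X)⁻¹) = (k : X) * d * (k : X)⁻¹ := by
    rw [hd]; group
  obtain ⟨n, hn, hn'⟩ := T.conj_eq_normalizer_conj_of_mem c (g⁻¹ * (k : X)⁻¹) hcT (e ▸ hmem)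
  have h3 : n⁻¹ * c * n = c := by simpa using hfix n⁻¹ (inv_mem hn)
  rw [e, h3] at hn'
  have hkc : (k : X) * c = c * (k : X) := Subgroup.mem_centralizer_singleton_iff.1 k.2
  calc d = (k : X)⁻¹ * ((k : X) * d * (k : X)⁻¹) * (k : X) := by group
    _ = (k : X)⁻¹ * (c * (k : X)) := by rw [hn', mul_assoc]
    _ = c := by rw [← hkc, inv_mul_cancel_left]

/-- Glauberman's lemma. -/
theorem mem_center_of_fixed : ∀ (X : Type u) [Group X] [Finite X] [Fact (Nat.Prime 2)],
    Cfsg.pPrimeCore 2 X = ⊥ → ∀ (T : Sylow 2 X), IsMulCommutative (T : Subgroup X) →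
    ∀ b ∈ (T : Subgroup X),
    (∀ n ∈ Subgroup.normalizer ((T : Subgroup X) : Set X), n * b * n⁻¹ = b) →
    b ∈ Subgroup.center X := by
  intro X _ _ _
  induction hn : Nat.card X using Nat.strong_induction_on generalizing X with
  | _ m ih =>
  subst hn
  intro hO T hT b hbT hfix
  haveI := hT
  by_cases hb1 : b = 1
  · rw [hb1]; exact one_mem _
  obtain ⟨j, hj⟩ : ∃ j : ℕ, orderOf b = 2 ^ j := by
    obtain ⟨j, hj⟩ := IsPGroup.iff_orderOf.1 T.2 ⟨b, hbT⟩
    exact ⟨j, by rw [← hj, Subgroup.orderOf_mk]⟩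
  obtain ⟨i, rfl⟩ : ∃ i, j = i + 1 := by
    cases j with
    | zero => exact absurd (orderOf_eq_one_iff.1 (by simpa using hj)) hb1
    | succ i => exact ⟨i, rfl⟩
  set c := b ^ (2 ^ i) with hc_def
  have hc : orderOf c = 2 := by
    rw [hc_def, orderOf_pow' b (by positivity), hj,
      Nat.gcd_eq_right (pow_dvd_pow 2 i.le_succ), pow_succ,
      Nat.mul_div_cancel_left _ (by positivity)]
  have hcT : c ∈ (T : Subgroup X) := pow_mem hbT _
  have hcfix : ∀ n ∈ Subgroup.normalizer ((T : Subgroup X) : Set X), n * c * n⁻¹ = c := by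
    intro n hn; rw [hc_def, ← conj_pow, hfix n hn]
  have hcz : c ∈ Subgroup.center X := by
    rw [Subgroup.mem_center_iff]
    intro g
    have h := Cfsg.Agent.BrauerSuzuki.zStar X c hc (isolated_of_fixed T hc hcT hcfix) g
    rw [hO, Subgroup.mem_bot, mul_inv_eq_one] at h
    exact (mul_inv_eq_iff_eq_mul.1 h)
  set Z := Subgroup.zpowers c with hZdef
  have hZc : Z ≤ Subgroup.center X := Subgroup.zpowers_le.2 hcz
  haveI hZn : Z.Normal := ⟨fun z hz g => by
    rw [Subgroup.mem_center_iff.1 (hZc hz) g, mul_inv_cancel_right]; exact hz⟩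
  have hZT : Z ≤ (T : Subgroup X) := Subgroup.zpowers_le.2 hcT
  have hcardZ : Nat.card Z = 2 := by rw [hZdef, Nat.card_zpowers, hc]
  let f := QuotientGroup.mk' Z
  have hker : f.ker ≤ (T : Subgroup X) := by rw [QuotientGroup.ker_mk']; exact hZT
  let T' : Sylow 2 (X ⧸ Z) := T.mapSurjective (QuotientGroup.mk'_surjective Z)
  have hT'c : (T' : Subgroup (X ⧸ Z)) = (T : Subgroup X).map f := rfl
  have hT'ab : IsMulCommutative (T' : Subgroup (X ⧸ Z)) := by
    refine ⟨⟨?_⟩⟩
    rintro ⟨x, hx⟩ ⟨y, hy⟩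
    rw [hT'c] at hx hy
    obtain ⟨x, hx', rfl⟩ := hx
    obtain ⟨y, hy', rfl⟩ := hy
    apply Subtype.ext
    show f x * f y = f y * f x
    rw [← map_mul, ← map_mul]
    exact congrArg f (congrArg Subtype.val
      (mul_comm' (⟨x, hx'⟩ : (T : Subgroup X)) ⟨y, hy'⟩))
  have hOq : Cfsg.pPrimeCore 2 (X ⧸ Z) = ⊥ := by
    set M := Cfsg.pPrimeCore 2 (X ⧸ Z)
    haveI hMn : M.Normal := Cfsg.Agent.FittingCores.pPrimeCore_normal 2
    set M' := M.comap f with hM'
    haveI : M'.Normal := hMn.comap f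
    have hZM : Z ≤ M' := by
      intro z hz
      rw [hM', Subgroup.mem_comap,
        show f z = 1 from (QuotientGroup.eq_one_iff z).2 hz]
      exact one_mem _
    have hcardM : Nat.card M' = Nat.card M * 2 := by
      have h1 := Subgroup.card_eq_card_quotient_mul_card_subgroup (Z.subgroupOf M')
      rw [Nat.card_congr (Subgroup.subgroupOfEquivOfLe hZM).toEquiv, hcardZ] at h1
      rw [h1]; congr 1
      have hi : Nat.card (M' ⧸ Z.subgroupOf M') = Z.relIndex M' := rfl
      have h2 := Subgroup.relIndex_ker (K := M') f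
      rw [QuotientGroup.ker_mk', hM',
        Subgroup.map_comap_eq_self_of_surjective (QuotientGroup.mk'_surjective Z)] at h2
      rw [hi, h2]
    have hodd : (Nat.card M).Coprime 2 := Cfsg.Agent.PBasic.pPrimeCore_coprime 2 _
    let P : Sylow 2 M' := IsPGroup.toSylow (P := Z.subgroupOf M')
      (IsPGroup.of_card (n := 1) (by
        rw [Nat.card_congr (Subgroup.subgroupOfEquivOfLe hZM).toEquiv, hcardZ, pow_one]))
      (by
        have h1 := Subgroup.card_mul_index (Z.subgroupOf M')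
        rw [Nat.card_congr (Subgroup.subgroupOfEquivOfLe hZM).toEquiv, hcardZ, hcardM,
          mul_comm (Nat.card M)] at h1
        rw [Nat.eq_of_mul_eq_mul_left two_pos h1]
        exact fun h => Nat.prime_two.coprime_iff_not_dvd.1 hodd.symm h)
    have hP : Subgroup.normalizer ((P : Subgroup M') : Set M') ≤
        Subgroup.centralizer ((P : Subgroup M') : Set M') := by
      intro x _
      rw [Subgroup.mem_centralizer_iff]
      intro y hy
      apply Subtype.ext
      exact (Subgroup.mem_center_iff.1 (hZc (Subgroup.mem_subgroupOf.1 hy)) x).symm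
    set K := (MonoidHom.transferSylow P hP).ker with hK
    have hKc := MonoidHom.ker_transferSylow_isComplement' P hP
    have hKodd : (Nat.card K).Coprime 2 := by
      rw [Nat.coprime_comm, Nat.prime_two.coprime_iff_not_dvd]
      exact MonoidHom.not_dvd_card_ker_transferSylow P hP
    have hKmem : ∀ x : M', x ∈ K ↔ Odd (orderOf x) := by
      intro x
      constructor
      · intro hx
        have h1 := Subgroup.orderOf_dvd_natCard _ hx
        exact Nat.Coprime.odd_of_right
          (Nat.Coprime.coprime_dvd_left h1 hKodd)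
      · intro hx
        haveI : K.Normal := MonoidHom.normal_ker _
        have hi : K.index = 2 := by
          rw [hKc.symm.index_eq_card]
          show Nat.card (Z.subgroupOf M') = 2
          rw [Nat.card_congr (Subgroup.subgroupOfEquivOfLe hZM).toEquiv, hcardZ]
        have h2 : x ^ 2 ∈ K := hi ▸ Subgroup.pow_index_mem K x
        obtain ⟨k, hk⟩ := hx
        have : x = (x ^ 2) ^ (k + 1) := by
          rw [← pow_mul, show 2 * (k + 1) = orderOf x + 1 by omega, pow_succ, pow_orderOf_eq_one,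
            one_mul]
        rw [this]; exact pow_mem h2 _
    have hKchar : K.Characteristic := by
      rw [Subgroup.characteristic_iff_comap_eq]
      intro φ
      ext x
      rw [Subgroup.mem_comap, hKmem, hKmem, MulEquiv.coe_toMonoidHom, MulEquiv.orderOf_eq]
    haveI := hKchar
    have hKle : K.map M'.subtype ≤ Cfsg.pPrimeCore 2 X :=
      Cfsg.Agent.PBasic.le_pPrimeCore inferInstance (by
        rwa [Subgroup.card_map_of_injective Subtype.val_injective])
    rw [hO, le_bot_iff, Subgroup.map_eq_bot_iff_of_injective _ Subtype.val_injective] at hKle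
    have hM'card : Nat.card M' = 2 := by
      rw [← hKc.card_mul_card, ← hK, hKle, Subgroup.card_bot, one_mul]
      show Nat.card (Z.subgroupOf M') = 2
      rw [Nat.card_congr (Subgroup.subgroupOfEquivOfLe hZM).toEquiv, hcardZ]
    exact Subgroup.eq_bot_of_card_eq _ (by omega)
  have hlt : Nat.card (X ⧸ Z) < Nat.card X := by
    rw [Subgroup.card_eq_card_quotient_mul_card_subgroup Z, hcardZ]
    have : 0 < Nat.card (X ⧸ Z) := Nat.card_pos
    omega
  have hbq := ih _ hlt (X ⧸ Z) rfl hOq T' hT'ab (f b) (by rw [hT'c]; exact ⟨b, hbT, rfl⟩) (by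
    intro q hq
    obtain ⟨n, rfl⟩ := QuotientGroup.mk'_surjective Z q
    have hn : n ∈ Subgroup.normalizer ((T : Subgroup X) : Set X) := by
      rw [Subgroup.mem_normalizer_iff] at hq ⊢
      intro t
      have h1 := hq (f t)
      rw [hT'c, ← Subgroup.mem_comap, ← map_inv, ← map_mul, ← map_mul, ← Subgroup.mem_comap,
        Subgroup.comap_map_eq_self hker] at h1
      exact h1
    rw [← map_inv, ← map_mul, ← map_mul, hfix n hn])
  have hmemZ : ∀ g : X, g * b * g⁻¹ * b⁻¹ ∈ Z := by
    intro g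
    rw [← QuotientGroup.eq_one_iff, ← QuotientGroup.mk'_apply]
    show f _ = 1
    rw [map_mul, map_mul, map_mul, Subgroup.mem_center_iff.1 hbq (f g), map_inv, map_inv,
      mul_inv_cancel_right, mul_inv_cancel]
  let φ : X →* X := MonoidHom.mk' (fun g => g * b * g⁻¹ * b⁻¹) (by
    intro g h
    have hz := Subgroup.mem_center_iff.1 (hZc (hmemZ h))
    calc g * h * b * (g * h)⁻¹ * b⁻¹ = g * (h * b * h⁻¹ * b⁻¹) * (b * g⁻¹ * b⁻¹) := by group
      _ = h * b * h⁻¹ * b⁻¹ * (g * b * g⁻¹ * b⁻¹) := by rw [hz g]; group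
      _ = g * b * g⁻¹ * b⁻¹ * (h * b * h⁻¹ * b⁻¹) := (hz _).symm)
  have hTk : (T : Subgroup X) ≤ φ.ker := by
    intro t ht
    show t * b * t⁻¹ * b⁻¹ = 1
    rw [show t * b = b * t from congrArg Subtype.val
      (mul_comm' (⟨t, ht⟩ : (T : Subgroup X)) ⟨b, hbT⟩), mul_inv_cancel_right, mul_inv_cancel]
  have hodd : Odd φ.ker.index := by
    refine Nat.not_even_iff_odd.1 fun h => T.not_dvd_index ?_
    exact dvd_trans (even_iff_two_dvd.1 h) (Subgroup.index_dvd_of_le hTk)
  rw [Subgroup.mem_center_iff]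
  intro g
  have h2 : φ g ^ 2 = 1 := by
    have : Nat.card Z = 2 := hcardZ
    have h := pow_card_eq_one' (x := (⟨φ g, hmemZ g⟩ : Z))
    rw [this] at h
    exact congrArg Subtype.val h
  have hidx : φ g ^ φ.ker.index = 1 := by
    rw [← map_pow]; exact Subgroup.pow_index_mem φ.ker g
  have h1 : φ g = 1 := by
    obtain ⟨k, hk⟩ := hodd
    rw [hk, pow_succ, pow_mul, h2, one_pow, one_mul] at hidx
    exact hidx
  exact mul_inv_eq_iff_eq_mul.1 (mul_inv_eq_one.1 h1)

end Cfsg.Agent.AbelianSylowAut
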